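import Cfsg.Agent.Lib.Helper4.TC.Timed

set_option autoImplicit false
set_option maxRecDepth 100000
set_option linter.unusedVariables false

namespace Cfsg.Agent.Lib.Helper24.J2TC.A5P

open Cfsg.Agent.Helper4.TC

def e0_0 : ℕ := 0x609c019260088700219d00689401b240098440271000a03c0298e00aa3402b8c00b22c02d8a009a640279800a25c02a1600ac5402c1400b44c02e1200d2140358400da0c0378200d4240360800dc1c0380600ee0003c01
def j0_0 : ℕ := 0x80416030080406030180c06030180c02010080402010080406030180c0201008040601
def e0_1 : ℕ := 0x4e8000bb0010d000533001ab8007ad0021a8004b90016e000cb10030c800f2f003ac0007370020d80132b004ab0008f500568c016a0005e7c0189e00666c01a9a0058a401d2100728801728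
def j0_1 : ℕ := 0x584c06030180eaa010082c060b01804020b01eb406030180c06030082c0601
def e1_0 : ℕ := 0x5d9c01866008570021dd00659401a640099440275000a13c029ce00ab3402bcc00b32c02dca009764026d8009f5c0295600a95402b5400b14c02d5200d314035c400db0c037c200d1240354800d91c0374600ef0003b41
def j1_0 : ℕ := 0x9ecd5caed96c940402010080402010099ac55ead55aa54ea540402010089a451e8d4040d
def e1_1 : ℕ := 0x1e8000fb0011d000573001bb8007ed0024a8003f90013e000bf10031c800e6f003bc000677001dd80126b004bb0008b500578c016e0005f7c018de00676c01ada0055a401c6100738801668
def j1_1 : ℕ := 0xeaf7404020100847cde2e372b7dc2ef76b5db286c0402010080402a6c362b45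
def e2_0 : ℕ := 0x7e58020d400817802353008b70024d200916801da2007c800291500807c0229d00906c0259900bb2402e5100c12002fcf00c71c0314d00cd18032cb00be400310e00ca300340a00e3040384500e900039c300e61003b02
def j2_0 : ℕ := 0x1d809ea0272809aa01008cc0201008ac048d011f4046d01174020100804042d010740201
def e2_1 : ℕ := 0x6e4002b7000ee00023b0018d80033a0027a400975002da000af300379c00d7100419800fef0047940116d005190013eb002ad000d32003ec00112e004eb00152a006f6001b6300795c01de1
def j2_1 : ℕ := 0x1d8ec66011980405ad01674058d015f4056d01574020100804020101474050d
def e3_0 : ℕ := 0x7f540209d0089500231b008f4c0249900954801c23007a8401f5f00a3580211e008e700251a00ba4002f4900c038030c800c6300324700cc28033c600bc440308f00c8340338b00e2100394100e80803ac000e41403a83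
def j3_0 : ℕ := 0x110c04430110d2a0100bf56a01008048602218088602218080201008048602218080201
def e3_1 : ℕ := 0x7e0002f60005ec003790009e8005f70026d000a69002cc800ce80036c000f670040b8010e60046b0013650050a8014e40028d400bb30038c4010af0048b4014ab006e8801d5800788001ed7
def j3_1 : ℕ := 0x100bbbcdeaef48602218088602218088602218080201008040201218088602
def m_0 : ℕ := 0x12a00f8d400784a003a34c01c12600d8d2006808803204001801e00b80e005806802a03001401600980a0048648022224010190007888003863801a21c00c18c0058860028028012010008006003802001860800a2040041800018800008000002000000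
def jm_0 : ℕ := 0x0
def m_1 : ℕ := 0x17001d8b600e81a00720cc03805c01b82d00d874806a2a40341d00198a800c873806229c0301cc0178a600b872805a29402c1c80158a400a811805208002803e01381e00980d804a0680241b001189800886b804225c020
def jm_1 : ℕ := 0x0

end Cfsg.Agent.Lib.Helper24.J2TC.A5P
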